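import Cfsg.Agent.SimpleFacts.ChevalleyBlocks.Intersections
import Cfsg.Agent.SimpleFacts.ChevalleyDefectZeroUse
import Cfsg.Agent.Lib.Blocks.SylowIntersection
import Cfsg.Agent.Lib.Blocks.NormalSylow
import Cfsg.Agent.Lib.Blocks.DefectCenter
import Cfsg.Agent.Lib.Chevalley.Types.CoefAll

/-!
Blocks of Chevalley groups in the defining characteristic.
-/

set_option autoImplicit false

open scoped Matrix

namespace Cfsg.Agent.SimpleFacts.ChevalleyBlocks

open Cfsg.Lie Cfsg.Agent.Chevalley.Table Cfsg.Agent.Chevalley.Cert Cfsg.Agent.Blocks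

variable {D : ChevalleyDatum} {T : Tab} {F : Type*} [Field F] [Fintype F]
variable {p : ℕ} [Fact p.Prime] {M : Ideal Cfsg.AlgInt}

/-- Every defect group is trivial or a Sylow subgroup. -/
theorem defect_cases (hC : Certified D T) (hd : domChk T = true) (hM : Cfsg.IsPModular p M)
    (P : Sylow p ↥(D.group F))
    (hP : (P : Subgroup ↥(D.group F)) = (D.posUnipotent F).subgroupOf (D.group F))
    {B : Set (Cfsg.IrrCharacter ↥(D.group F))} (hB : Cfsg.IsPBlock M B) :
    Cfsg.IsDefectGroup p M B ⊥ ∨ Cfsg.IsDefectGroup p M B (P : Subgroup ↥(D.group F)) := by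
  classical
  haveI : Finite ↥(D.group F) := inferInstance
  have hUG : D.posUnipotent F ≤ D.group F :=
    (le_sup_left).trans (Cfsg.Agent.Chevalley.Borel.B_le_group hC)
  obtain ⟨E₀, hE₀⟩ := exists_defectGroup hM hB
  obtain ⟨Q, hQ⟩ := (isPGroup_defect hE₀).exists_le_sylow
  obtain ⟨g, hg⟩ := MulAction.exists_smul_eq ↥(D.group F) Q P
  obtain ⟨E, hE⟩ : ∃ E, E = E₀.map (MulAut.conj g).toMonoidHom := ⟨_, rfl⟩
  have hED : Cfsg.IsDefectGroup p M B E := hE ▸ defectGroup_conj hM hE₀ g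
  have hEP : E ≤ P := by
    rw [hE, ← hg, Sylow.coe_subgroup_smul]
    rintro _ ⟨z, hz, rfl⟩
    exact ⟨z, hQ hz, rfl⟩
  obtain ⟨E', hE'⟩ : ∃ E', E' = E.map (D.group F).subtype := ⟨_, rfl⟩
  have hE'U : E' ≤ D.posUnipotent F := by
    rw [hE']
    rintro _ ⟨z, hz, rfl⟩
    have := hEP hz
    rwa [hP] at this
  have key : ∀ y ∈ D.group F, (∀ z ∈ E', y * z * y⁻¹ ∈ D.posUnipotent F) →
      IsInter D F (E'.map (MulAut.conj y).toMonoidHom) := by
    intro y hy hyU
    have hyD := defectGroup_conj hM hED ⟨y, hy⟩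
    have hle : E.map (MulAut.conj (⟨y, hy⟩ : ↥(D.group F))).toMonoidHom ≤ P := by
      rintro _ ⟨z, hz, rfl⟩
      rw [hP, Subgroup.mem_subgroupOf]
      exact hyU _ (hE' ▸ ⟨z, hz, rfl⟩)
    obtain ⟨x, -, hxs, hinf⟩ := defectGroup_eq_sylow_inter hM hB hyD P hle
    have hxC := isSylCent_mem hxs
    refine ⟨x, x.2, ?_, fun z => ⟨?_, ?_⟩⟩
    · rintro _ ⟨w, hw, rfl⟩
      rw [hE'] at hw
      obtain ⟨v, hv, rfl⟩ := hw
      exact (congrArg Subtype.val (Subgroup.mem_centralizer_iff.1 hxC _ ⟨v, hv, rfl⟩)).symm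
    · rintro ⟨w, hw, rfl⟩
      rw [hE'] at hw
      obtain ⟨v, hv, rfl⟩ := hw
      have hv' : (⟨y, hy⟩ : ↥(D.group F)) * v * (⟨y, hy⟩ : ↥(D.group F))⁻¹ ∈
          (P : Subgroup ↥(D.group F)) ⊓ (P : Subgroup ↥(D.group F)).map (MulAut.conj x).toMonoidHom := by
        rw [hinf]; exact ⟨v, hv, rfl⟩
      obtain ⟨h1, h2'⟩ := Subgroup.mem_inf.1 hv'
      have h2 := mem_map_conj_iff.1 h2'
      rw [hP] at h1 h2
      exact ⟨h1, h2⟩
    · rintro ⟨h1, h2⟩
      have hzG : z ∈ D.group F := hUG h1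
      have hz : (⟨z, hzG⟩ : ↥(D.group F)) ∈ E.map (MulAut.conj (⟨y, hy⟩ : ↥(D.group F))).toMonoidHom := by
        rw [← hinf]
        refine ⟨?_, mem_map_conj_iff.2 ?_⟩
        · rw [hP]; exact h1
        · rw [hP]; exact h2
      obtain ⟨v, hv, hve⟩ := hz
      exact ⟨v, hE' ▸ ⟨v, hv, rfl⟩, congrArg Subtype.val hve⟩
  rcases eq_bot_or_eq_U hC hd hE'U key with h | h
  · left
    have : E = ⊥ := by
      rw [hE'] at h
      exact (Subgroup.map_eq_bot_iff_of_injective _ (D.group F).subtype_injective).1 h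
    exact this ▸ hED
  · right
    have : E = (P : Subgroup ↥(D.group F)) := by
      refine le_antisymm hEP fun z hz => ?_
      rw [hP, Subgroup.mem_subgroupOf, ← h, hE'] at hz
      obtain ⟨v, hv, hve⟩ := hz
      obtain rfl : v = z := Subtype.ext hve
      exact hv
    exact this ▸ hED

/-- There is one block of full defect. -/
theorem card_full (hC : Certified D T) (hM : Cfsg.IsPModular p M) (P : Sylow p ↥(D.group F))
    (hP : (P : Subgroup ↥(D.group F)) = (D.posUnipotent F).subgroupOf (D.group F)) :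
    Nat.card {B : Set (Cfsg.IrrCharacter ↥(D.group F)) // Cfsg.IsPBlock M B ∧
      Cfsg.IsDefectGroup p M B (P : Subgroup ↥(D.group F))} = 1 := by
  classical
  have hUG : D.posUnipotent F ≤ D.group F :=
    (le_sup_left).trans (Cfsg.Agent.Chevalley.Borel.B_le_group hC)
  rw [card_full_defect_blocks hM P, Nat.card_eq_one_iff_unique]
  have hone : ∀ n : Subgroup.normalizer ((P : Subgroup ↥(D.group F)) : Set ↥(D.group F)),
      ¬ p ∣ orderOf n → (n : ↥(D.group F)) ∈ Subgroup.centralizer ((P : Subgroup ↥(D.group F)) : Set ↥(D.group F)) →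
      n = 1 := by
    intro n hreg hc
    have hU : ((n : ↥(D.group F)) : GL D.Idx F) ∈ D.posUnipotent F := by
      refine centralizer_U_le hC (n : ↥(D.group F)).2 fun z hz => ?_
      have := Subgroup.mem_centralizer_iff.1 hc ⟨z, hUG hz⟩ (by
        show (⟨z, hUG hz⟩ : ↥(D.group F)) ∈ (P : Subgroup ↥(D.group F))
        rw [hP, Subgroup.mem_subgroupOf]; exact hz)
      exact (congrArg Subtype.val this).symm
    obtain ⟨k, hk⟩ := IsPGroup.iff_orderOf.1 P.isPGroup' ⟨(n : ↥(D.group F)),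
      (SetLike.ext_iff.1 hP _).2 (Subgroup.mem_subgroupOf.2 hU)⟩
    rw [Subgroup.orderOf_mk, Subgroup.orderOf_coe] at hk
    refine orderOf_eq_one_iff.1 ?_
    rcases Nat.eq_zero_or_pos k with rfl | hk0
    · rw [hk, pow_zero]
    · exact absurd (hk ▸ dvd_pow_self p hk0.ne') hreg
  have hconj1 : ∀ n, ConjClasses.mk n = ConjClasses.mk
      (1 : Subgroup.normalizer ((P : Subgroup ↥(D.group F)) : Set ↥(D.group F))) → n = 1 := fun n h =>
    isConj_one_left.1 (ConjClasses.mk_eq_mk_iff_isConj.1 h)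
  refine ⟨⟨fun a b => Subtype.ext ?_⟩, ⟨⟨ConjClasses.mk 1, fun n hn => ?_⟩⟩⟩
  · obtain ⟨m, hm⟩ := ConjClasses.mk_surjective a.1
    obtain ⟨m', hm'⟩ := ConjClasses.mk_surjective b.1
    rw [← hm, ← hm', hone m (a.2 m hm).1 (a.2 m hm).2, hone m' (b.2 m' hm').1 (b.2 m' hm').2]
  · rw [hconj1 n hn, orderOf_one, OneMemClass.coe_one]
    exact ⟨fun h => (Fact.out : p.Prime).ne_one (Nat.dvd_one.1 h), one_mem _⟩

/-- Every block has defect zero or full defect. -/
theorem blockDefect_cases (hC : Certified D T) (hd : domChk T = true) (hM : Cfsg.IsPModular p M)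
    (P : Sylow p ↥(D.group F))
    (hP : (P : Subgroup ↥(D.group F)) = (D.posUnipotent F).subgroupOf (D.group F))
    {B : Set (Cfsg.IrrCharacter ↥(D.group F))} (hB : Cfsg.IsPBlock M B) :
    Cfsg.blockDefect p B = 0 ∨ (Cfsg.blockDefect p B = (Nat.card ↥(D.group F)).factorization p ∧
      Cfsg.IsDefectGroup p M B (P : Subgroup ↥(D.group F))) := by
  haveI : Finite ↥(D.group F) := inferInstance
  have hp1 : 1 < p := (Fact.out : p.Prime).one_lt
  rcases defect_cases hC hd hM P hP hB with h | h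
  · left
    have := card_defectGroup hM hB h
    rw [Subgroup.card_bot] at this
    exact (Nat.pow_eq_one.1 this.symm).resolve_left hp1.ne'
  · exact Or.inr ⟨Nat.pow_right_injective hp1 ((card_defectGroup hM hB h).symm.trans P.card_eq_multiplicity), h⟩

/-- There are exactly two blocks. -/
theorem card_blocks [CharP F p] (hC : Certified D T) (hd : domChk T = true)
    {N : List (List ℤ)} (hN : Cfsg.Agent.Chevalley.Coef.coefChk T N = true)
    (hD : D ∈ [chevG2, chevB2, chevD4, chevF4, chevE6, chevE7, chevE8]) (hM : Cfsg.IsPModular p M) :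
    Nat.card {B : Set (Cfsg.IrrCharacter ↥(D.group F)) // Cfsg.IsPBlock M B} = 2 := by
  classical
  haveI : Finite ↥(D.group F) := inferInstance
  obtain ⟨P, hP⟩ := Cfsg.Agent.SimpleFacts.ChevalleySylow.exists_sylow (F := F) p D hD
  set St : Cfsg.IrrCharacter ↥(D.group F) :=
    ⟨_, Cfsg.Agent.SimpleFacts.ChevalleySteinbergUse.isIrr (F := F) D hD⟩ with hSt
  have h0 : Cfsg.blockDefect p (Cfsg.blockOf M (St : ↥(D.group F) → ℂ)) = 0 :=
    blockDefect_zero_of_vanish hM St fun g hg =>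
      Cfsg.Agent.SimpleFacts.ChevalleySteinbergUse.vanishes p D hD g (hg ▸ dvd_rfl)
  have hzero : ∀ B, Cfsg.IsPBlock M B → Cfsg.blockDefect p B = 0 →
      B = Cfsg.blockOf M (St : ↥(D.group F) → ℂ) := by
    intro B hB hB0
    obtain ⟨χ, hχ, hht⟩ := exists_height_zero hM hB
    have hdeg := degree_factorization_eq hM hB hχ
    rw [hB0, hht, add_zero, add_zero] at hdeg
    have e : (χ : ↥(D.group F) → ℂ) = D.steinbergCharacter F := by
      refine Cfsg.Agent.SimpleFacts.ChevalleyDefectZeroUse.steinberg_unique hC p hN hD _ χ.2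
        ⟨Cfsg.charDegree (χ : ↥(D.group F) → ℂ), (charDegree_cast χ).symm, ?_⟩
      rw [← hdeg]
      exact Nat.ordProj_dvd _ p
    have : χ = St := Subtype.ext e
    rw [← this]
    exact block_eq_blockOf hM hB hχ
  have hpos : (Nat.card ↥(D.group F)).factorization p ≠ 0 := by
    intro h
    have hr : 0 < D.rank := by
      simp only [List.mem_cons, List.not_mem_nil, or_false] at hD
      rcases hD with rfl | rfl | rfl | rfl | rfl | rfl | rfl <;> decide +kernel
    have h1 : Nat.card (P : Subgroup ↥(D.group F)) = 1 := by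
      rw [P.card_eq_multiplicity, h, pow_zero]
    have hmem : Cfsg.Agent.Chevalley.Group.xg hC (D.simple 0) (1 : F) ∈ D.posUnipotent F :=
      Cfsg.Agent.Chevalley.Borel.xg_mem_U hC (hC.simple_lt hr) (hC.phi_simple hr) 1
    have hmem' : (⟨_, Cfsg.Agent.Chevalley.Borel.xg_mem_group hC (hC.simple_lt hr) (1 : F)⟩ : ↥(D.group F)) ∈
        (P : Subgroup ↥(D.group F)) := by rw [hP, Subgroup.mem_subgroupOf]; exact hmem
    rw [Subgroup.card_eq_one] at h1
    rw [h1, Subgroup.mem_bot] at hmem'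
    have h2 : Cfsg.Agent.Chevalley.Group.xg hC (D.simple 0) (1 : F) = 1 := congrArg Subtype.val hmem'
    rw [← Cfsg.Agent.Chevalley.Group.xg_zero hC (D.simple 0)] at h2
    exact one_ne_zero (Cfsg.Agent.Chevalley.Borel.xg_injective hC (hC.simple_lt hr) h2)
  have h1 := card_full hC hM P hP
  rw [Nat.card_eq_one_iff_unique] at h1
  obtain ⟨hsub, ⟨B₁, hB₁, hD₁⟩⟩ := h1
  have hne : Cfsg.blockOf M (St : ↥(D.group F) → ℂ) ≠ B₁ := by
    intro e
    have := card_defectGroup hM hB₁ hD₁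
    rw [← e, h0, pow_zero, P.card_eq_multiplicity] at this
    exact hpos ((Nat.pow_eq_one.1 this).resolve_left (Fact.out : p.Prime).ne_one)
  rw [Nat.card_eq_two_iff]
  refine ⟨⟨_, isPBlock_blockOf M St⟩, ⟨B₁, hB₁⟩, fun h => hne (congrArg Subtype.val h), ?_⟩
  refine Set.eq_univ_of_forall fun B => ?_
  rcases blockDefect_cases hC hd hM P hP B.2 with h | ⟨-, h⟩
  · exact Or.inl (Subtype.ext (hzero _ B.2 h))
  · refine Or.inr (Subtype.ext ?_)
    have := hsub.elim ⟨B.1, B.2, h⟩ ⟨B₁, hB₁, hD₁⟩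
    exact Subtype.mk.inj this

theorem domChk_G2 : domChk Cfsg.Agent.Chevalley.Data.G2.tab = true := by decide +kernel

theorem domChk_F4 : domChk Cfsg.Agent.Chevalley.Data.F4.tab = true := by decide +kernel

theorem domChk_E8 : domChk Cfsg.Agent.Chevalley.Data.E8.tab = true := by decide +kernel

end Cfsg.Agent.SimpleFacts.ChevalleyBlocks
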