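import Cfsg.Agent.SimpleFacts.ChevalleyBlocks.RootSets
import Cfsg.Agent.SimpleFacts.ChevalleyRadical

/-!
Subgroups of `U` all of whose conjugates inside `U` are intersections `U ∩ ˣU` with `x` centralising them.
-/

set_option autoImplicit false

open scoped Matrix

namespace Cfsg.Agent.SimpleFacts.ChevalleyBlocks

open Cfsg.Lie Cfsg.Agent.Chevalley.Eval Cfsg.Agent.Chevalley.Table Cfsg.Agent.Chevalley.Check Cfsg.Agent.Chevalley.Cert
  Cfsg.Agent.Chevalley.Group Cfsg.Agent.Chevalley.Unip Cfsg.Agent.Chevalley.Borel Cfsg.Agent.Chevalley.Bruhat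
  Cfsg.Agent.Chevalley.Weyl Cfsg.Agent.Chevalley.NormalForm Cfsg.Agent.SimpleFacts.ChevalleyRadical

variable {D : ChevalleyDatum} {T : Tab} {F : Type*} [Field F]

/-- `E` is the intersection of `U` with a conjugate of it by an element centralising `E`. -/
def IsInter (D : ChevalleyDatum) (F : Type*) [Field F] (E : Subgroup (GL D.Idx F)) : Prop :=
  ∃ x ∈ D.group F, (∀ z ∈ E, x * z = z * x) ∧
    ∀ z, z ∈ E ↔ z ∈ D.posUnipotent F ∧ x⁻¹ * z * x ∈ D.posUnipotent F

variable (hC : Certified D T)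
include hC

theorem borel_conj_mem_U {b z : GL D.Idx F} (hb : b ∈ D.borelSubgroup F) (hz : z ∈ D.posUnipotent F) :
    b * z * b⁻¹ ∈ D.posUnipotent F := by
  obtain ⟨v, hv, h, hh, rfl⟩ := (mem_B_iff hC).1 hb
  have := (Subgroup.mem_normalizer_iff.1 (H_normalizes_U hC hh) z).1 hz
  rw [show v * h * z * (v * h)⁻¹ = v * (h * z * h⁻¹) * v⁻¹ by group]
  exact mul_mem (mul_mem hv this) (inv_mem hv)

/-- Conjugation in `B` scales the leading root. -/
theorem borel_conj_xg {r : ℕ} (hr : r < D.nroots) (hp : 0 < T.phi r) {b : GL D.Idx F}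
    (hb : b ∈ D.borelSubgroup F) {t : F} (ht : t ≠ 0) :
    ∃ θ : F, θ ≠ 0 ∧ b * xg hC r t * b⁻¹ * (xg hC r θ)⁻¹ ∈ Uge hC F (r + 1) := by
  obtain ⟨v, hv, h, hh, rfl⟩ := (mem_B_iff hC).1 hb
  obtain ⟨d, rfl⟩ := (mem_H_iff hC).1 hh
  refine ⟨_, mul_ne_zero (Units.ne_zero (torChar D d r)) ht, ?_⟩
  rw [show v * tor D d * xg hC r t * (v * tor D d)⁻¹ =
    v * (tor D d * xg hC r t * (tor D d)⁻¹) * v⁻¹ by group, tor_conj_x hC d r t hr]
  exact conj_xg_Uge hC hr hp hv _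

theorem borel_conj_Uge {r : ℕ} (hr : r < D.nroots) (hp : 0 < T.phi r) {b : GL D.Idx F}
    (hb : b ∈ D.borelSubgroup F) {t : F} (ht : t ≠ 0) :
    b * xg hC r t * b⁻¹ ∈ Uge hC F r ∧ b * xg hC r t * b⁻¹ ∉ Uge hC F (r + 1) := by
  obtain ⟨θ, hθ, h⟩ := borel_conj_xg hC hr hp hb ht
  refine ⟨?_, fun hm => hθ (not_mem_Uge hC hr hp ?_)⟩
  · have := mul_mem (Uge_mono hC (Nat.le_succ r) h) (xg_mem_Uge hC hr hp le_rfl θ)
    rwa [inv_mul_cancel_right] at this
  · have := mul_mem (inv_mem h) hm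
    rwa [mul_inv_rev, inv_inv, inv_mul_cancel_right] at this

/-- A root element conjugate under `B` to a positive root element belongs to the same root. -/
theorem eq_of_borel_conj {r s : ℕ} (hr : r < D.nroots) (hp : 0 < T.phi r) (hs : s < D.nroots)
    (hps : 0 < T.phi s) {b : GL D.Idx F} (hb : b ∈ D.borelSubgroup F) {η t : F} (ht : t ≠ 0)
    (h : xg hC s η = b * xg hC r t * b⁻¹) : s = r := by
  obtain ⟨h1, h2⟩ := borel_conj_Uge hC hr hp hb ht
  rw [← h] at h1 h2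
  rcases lt_trichotomy s r with hlt | heq | hgt
  · have hη := not_mem_Uge hC hs hps (Uge_mono hC hlt h1)
    rw [hη, xg_zero hC] at h2
    exact absurd (one_mem _) h2
  · exact heq
  · exact absurd (xg_mem_Uge hC hs hps hgt η) h2

variable {L : List ℕ} (hL : ∀ i ∈ L, i < D.rank) (c : ℕ → Fˣ)
include hL

theorem inv_conj_xg {r : ℕ} (hr : r < D.nroots) :
    ∃ η : F, η ≠ 0 ∧ ∀ t : F, (tor D c * nL hC F L)⁻¹ * xg hC r t * (tor D c * nL hC F L) =
      xg hC (wL D L.reverse r) (η * t) := by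
  have hrev : ∀ i ∈ L.reverse, i < D.rank := fun i hi => hL i (List.mem_reverse.1 hi)
  obtain ⟨η, hη, e⟩ := conj_xg (F := F) hC hL c (wL_lt hC hrev hr)
  have hid : wL D L (wL D L.reverse r) = r := by
    have := wL_reverse hC hrev hr
    rwa [List.reverse_reverse] at this
  rw [hid] at e
  refine ⟨η⁻¹, inv_ne_zero hη, fun t => ?_⟩
  rw [show xg hC r t = xg hC r (η * (η⁻¹ * t)) by rw [mul_inv_cancel_left₀ hη], ← e]
  group

/-- The part of `U` that `n⁻¹` keeps in `U` is generated by root elements. -/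
theorem mem_closure_keep {z : GL D.Idx F} (hz : z ∈ D.posUnipotent F)
    (hz' : (tor D c * nL hC F L)⁻¹ * z * (tor D c * nL hC F L) ∈ D.posUnipotent F) :
    z ∈ Subgroup.closure {g : GL D.Idx F | ∃ (r : ℕ) (t : F),
      r < D.nroots ∧ 0 < T.phi r ∧ 0 < T.phi (wL D L.reverse r) ∧ g = xg hC r t} := by
  classical
  have hrev : ∀ i ∈ L.reverse, i < D.rank := fun i hi => hL i (List.mem_reverse.1 hi)
  obtain ⟨n, hn⟩ : ∃ n, n = tor D c * nL hC F L := ⟨_, rfl⟩
  rw [← hn] at hz'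
  rw [← Uge_zero hC] at hz
  obtain ⟨f, hf⟩ := split_decomp hC (fun s => decide (0 < T.phi (wL D L.reverse s))) 0 _ hz
  obtain ⟨A, hA⟩ : ∃ A : GL D.Idx F, A = prodX hC
      ((posFrom D 0).filter fun s => decide (0 < T.phi (wL D L.reverse s))) f := ⟨_, rfl⟩
  obtain ⟨B, hB⟩ : ∃ B : GL D.Idx F, B = prodX hC
      ((posFrom D 0).filter fun s => !decide (0 < T.phi (wL D L.reverse s))).reverse f := ⟨_, rfl⟩
  rw [← hA, ← hB] at hf
  set S : Subgroup (GL D.Idx F) := Subgroup.closure {g : GL D.Idx F | ∃ (r : ℕ) (t : F),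
      r < D.nroots ∧ 0 < T.phi r ∧ 0 < T.phi (wL D L.reverse r) ∧ g = xg hC r t} with hS
  have hAS : A ∈ S := by
    rw [hA]
    refine list_prod_mem fun y hy => ?_
    obtain ⟨r, hr, rfl⟩ := List.mem_map.1 hy
    obtain ⟨hr', hq⟩ := List.mem_filter.1 hr
    obtain ⟨h3, h4, -⟩ := (mem_posFrom hC).1 hr'
    exact Subgroup.subset_closure ⟨r, _, h3, h4, of_decide_eq_true hq, rfl⟩
  have hSU : S ≤ (D.posUnipotent F).comap (MulAut.conj n⁻¹).toMonoidHom := by
    rw [hS, Subgroup.closure_le]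
    rintro _ ⟨r, t, hr, -, hp', rfl⟩
    obtain ⟨η, -, e⟩ := inv_conj_xg (F := F) hC hL c hr
    show n⁻¹ * xg hC r t * n⁻¹⁻¹ ∈ D.posUnipotent F
    rw [inv_inv, hn, e]
    exact xg_mem_U hC (wL_lt hC hrev hr) hp' _
  have hB1 : n⁻¹ * B * n⁻¹⁻¹ = 1 := by
    refine U_inf_V hC ?_ ?_
    · have e : n⁻¹ * B * n⁻¹⁻¹ = (n⁻¹ * A * n⁻¹⁻¹)⁻¹ * (n⁻¹ * z * n) := by rw [hf]; group
      rw [e]
      exact mul_mem (inv_mem (hSU hAS)) hz'
    · have : B ∈ (D.negUnipotent F).comap (MulAut.conj n⁻¹).toMonoidHom := by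
        rw [hB]
        refine list_prod_mem fun y hy => ?_
        obtain ⟨r, hr, rfl⟩ := List.mem_map.1 hy
        obtain ⟨hr', hq⟩ := List.mem_filter.1 (List.mem_reverse.1 hr)
        obtain ⟨h3, -, -⟩ := (mem_posFrom hC).1 hr'
        obtain ⟨η, -, e⟩ := inv_conj_xg (F := F) hC hL c h3
        show n⁻¹ * xg hC r (f r) * n⁻¹⁻¹ ∈ D.negUnipotent F
        rw [inv_inv, hn, e]
        refine xg_mem_V hC (wL_lt hC hrev h3) ?_ _
        have := hC.phi_ne_zero (wL_lt hC hrev h3)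
        simp only [Bool.not_eq_true', decide_eq_false_iff_not] at hq
        omega
      exact this
  rw [conj_eq_one_iff] at hB1
  rw [hf, hB1, mul_one]
  exact hAS

omit hL

/-- The shape of an intersection `U ∩ ˣU` with `x` centralising it. -/
theorem exists_shape {E : Subgroup (GL D.Idx F)} (hE : IsInter D F E) :
    ∃ b ∈ D.borelSubgroup F, ∃ M : List ℕ, (∀ i ∈ M, i < D.rank) ∧ IsFixWord D T M ∧
      (∀ r, IsFixRoot D T M r → ∀ t : F, b * xg hC r t * b⁻¹ ∈ E) ∧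
      ∀ z ∈ E, b⁻¹ * z * b ∈ Subgroup.closure {g : GL D.Idx F | ∃ (r : ℕ) (t : F),
        IsFixRoot D T M r ∧ g = xg hC r t} := by
  obtain ⟨x, hx, hcomm, hmem⟩ := hE
  obtain ⟨b, hb, n, hn, u, hu, rfl⟩ := exists_BUN hC hx
  obtain ⟨c, L, hL, rfl⟩ := (mem_N_iff hC).1 hn
  obtain ⟨n, hn'⟩ : ∃ n, n = tor D c * nL hC F L := ⟨_, rfl⟩
  rw [← hn'] at hcomm hmem
  have hrev : ∀ i ∈ L.reverse, i < D.rank := fun i hi => hL i (List.mem_reverse.1 hi)
  have hU : ∀ z, z ∈ D.posUnipotent F → n⁻¹ * z * n ∈ D.posUnipotent F → b * z * b⁻¹ ∈ E := by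
    intro z hz hz'
    refine (hmem _).2 ⟨borel_conj_mem_U hC hb hz, ?_⟩
    rw [show (b * n * u)⁻¹ * (b * z * b⁻¹) * (b * n * u) = u⁻¹ * (n⁻¹ * z * n) * u by group]
    exact mul_mem (mul_mem (inv_mem hu) hz') hu
  have hkeep : ∀ r, r < D.nroots → 0 < T.phi r → 0 < T.phi (wL D L.reverse r) →
      ∀ t : F, b * xg hC r t * b⁻¹ ∈ E := by
    intro r hr hp hp' t
    refine hU _ (xg_mem_U hC hr hp t) ?_
    obtain ⟨η, -, e⟩ := inv_conj_xg (F := F) hC hL c hr
    rw [hn', e]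
    exact xg_mem_U hC (wL_lt hC hrev hr) hp' _
  have hub : u * b ∈ D.borelSubgroup F := mul_mem (Subgroup.mem_sup_left hu) hb
  have hfix : IsFixWord D T L.reverse := by
    intro r hr hp hp'
    obtain ⟨η, -, e⟩ := inv_conj_xg (F := F) hC hL c hr
    refine eq_of_borel_conj hC hr hp (wL_lt hC hrev hr) hp' hub (t := 1) one_ne_zero (η := η * 1) ?_
    rw [← e, ← hn']
    have := hcomm _ (hkeep r hr hp hp' 1)
    calc n⁻¹ * xg hC r 1 * n
        = n⁻¹ * b⁻¹ * (b * xg hC r 1 * b⁻¹ * (b * n * u)) * u⁻¹ := by group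
      _ = n⁻¹ * b⁻¹ * (b * n * u * (b * xg hC r 1 * b⁻¹)) * u⁻¹ := by rw [this]
      _ = _ := by group
  refine ⟨b, hb, L.reverse, hrev, hfix, fun r hr t => hkeep r hr.1 hr.2.1 (by rw [hr.2.2]; exact hr.2.1) t,
    fun z hz => ?_⟩
  obtain ⟨h1, h2⟩ := (hmem z).1 hz
  have hz1 : b⁻¹ * z * b ∈ D.posUnipotent F := by
    simpa using borel_conj_mem_U hC (inv_mem hb) h1
  have hz2 : n⁻¹ * (b⁻¹ * z * b) * n ∈ D.posUnipotent F := by
    have := mul_mem (mul_mem hu h2) (inv_mem hu)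
    rwa [show u * ((b * n * u)⁻¹ * z * (b * n * u)) * u⁻¹ = n⁻¹ * (b⁻¹ * z * b) * n by group] at this
  rw [hn'] at hz2
  refine Subgroup.closure_mono ?_ (mem_closure_keep hC hL c hz1 hz2)
  rintro _ ⟨r, t, hr, hp, hp', rfl⟩
  exact ⟨r, t, ⟨hr, hp, hfix r hr hp hp'⟩, rfl⟩

/-- If every conjugate in `U` of a subgroup of `U` is such an intersection, it is trivial or `U`. -/
theorem eq_bot_or_eq_U [Finite F] (hd : domChk T = true) {E : Subgroup (GL D.Idx F)}
    (hEU : E ≤ D.posUnipotent F)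
    (h : ∀ y ∈ D.group F, (∀ z ∈ E, y * z * y⁻¹ ∈ D.posUnipotent F) →
      IsInter D F (E.map (MulAut.conj y).toMonoidHom)) :
    E = ⊥ ∨ E = D.posUnipotent F := by
  classical
  have hE : IsInter D F E := by
    have h1 := h 1 (one_mem _) (fun z hz => by simpa using hEU hz)
    have e : E.map (MulAut.conj (1 : GL D.Idx F)).toMonoidHom = E := by
      ext z; simp
    rwa [e] at h1
  obtain ⟨b, hb, M, hM, hfix, hk, hcl⟩ := exists_shape hC hE
  by_cases hex : ∃ s, IsFixRoot D T M s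
  swap
  · refine Or.inl ((Subgroup.eq_bot_iff_forall E).2 fun z hz => ?_)
    have hle : Subgroup.closure {g : GL D.Idx F | ∃ (r : ℕ) (t : F), IsFixRoot D T M r ∧ g = xg hC r t}
        ≤ ⊥ := by
      rw [Subgroup.closure_le]
      rintro _ ⟨r, t, hr, rfl⟩
      exact absurd ⟨r, hr⟩ hex
    exact conj_eq_one_iff.1 (show b⁻¹ * z * b⁻¹⁻¹ = 1 by rw [inv_inv]; exact Subgroup.mem_bot.1 (hle (hcl z hz)))
  refine Or.inr (le_antisymm hEU ?_)
  obtain ⟨s, hs⟩ := hex
  obtain ⟨L, x₀, hL, hpos, hx₀, hdom⟩ := exists_dominant_image hC hM hfix hs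
  have hyG : nL hC F L * b⁻¹ ∈ D.group F :=
    mul_mem (N_le_group hC (nL_mem_N hC hL)) (inv_mem (B_le_group hC hb))
  have hyU : ∀ z ∈ E, nL hC F L * b⁻¹ * z * (nL hC F L * b⁻¹)⁻¹ ∈ D.posUnipotent F := by
    intro z hz
    have hle : Subgroup.closure {g : GL D.Idx F | ∃ (r : ℕ) (t : F), IsFixRoot D T M r ∧ g = xg hC r t}
        ≤ (D.posUnipotent F).comap (MulAut.conj (nL hC F L)).toMonoidHom := by
      rw [Subgroup.closure_le]
      rintro _ ⟨r, t, hr, rfl⟩
      obtain ⟨η, -, e⟩ := nL_conj_x (F := F) hC hL hr.1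
      show nL hC F L * xg hC r t * (nL hC F L)⁻¹ ∈ D.posUnipotent F
      rw [e]
      exact xg_mem_U hC (wL_lt hC hL hr.1) (hpos r hr) _
    have := hle (hcl z hz)
    rw [show nL hC F L * b⁻¹ * z * (nL hC F L * b⁻¹)⁻¹ = nL hC F L * (b⁻¹ * z * b) * (nL hC F L)⁻¹ by group]
    exact this
  obtain ⟨b', hb', M', hM', hfix', hk', hcl'⟩ := exists_shape hC (h _ hyG hyU)
  obtain ⟨η, hη, e⟩ := nL_conj_x (F := F) hC hL hx₀.1
  have htl := wL_lt hC hL hx₀.1
  have htp := hpos x₀ hx₀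
  have hmem : xg hC (wL D L x₀) η ∈ E.map (MulAut.conj (nL hC F L * b⁻¹)).toMonoidHom := by
    refine ⟨_, hk x₀ hx₀ 1, ?_⟩
    show nL hC F L * b⁻¹ * (b * xg hC x₀ 1 * b⁻¹) * (nL hC F L * b⁻¹)⁻¹ = _
    rw [show nL hC F L * b⁻¹ * (b * xg hC x₀ 1 * b⁻¹) * (nL hC F L * b⁻¹)⁻¹ =
      nL hC F L * xg hC x₀ 1 * (nL hC F L)⁻¹ by group, e, mul_one]
  have htfix : wL D M' (wL D L x₀) = wL D L x₀ := by
    by_contra hne
    obtain ⟨h1, h2⟩ := borel_conj_Uge hC htl htp (inv_mem hb') hη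
    rw [inv_inv] at h1 h2
    have hz := hcl' _ hmem
    -- the roots fixed by `M'` above the given one lie above the next
    obtain ⟨w, hw⟩ : ∃ w, w = b'⁻¹ * xg hC (wL D L x₀) η * b' := ⟨_, rfl⟩
    rw [← hw] at h1 h2 hz
    obtain ⟨f, hf⟩ := split_decomp hC (fun r => decide (IsFixRoot D T M' r)) (wL D L x₀) _ h1
    obtain ⟨A, hA⟩ : ∃ A : GL D.Idx F, A = prodX hC
        ((posFrom D (wL D L x₀)).filter fun r => decide (IsFixRoot D T M' r)) f := ⟨_, rfl⟩
    obtain ⟨B, hB⟩ : ∃ B : GL D.Idx F, B = prodX hC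
        ((posFrom D (wL D L x₀)).filter fun r => !decide (IsFixRoot D T M' r)).reverse f := ⟨_, rfl⟩
    rw [← hA, ← hB] at hf
    set S : Subgroup (GL D.Idx F) :=
      Subgroup.closure {g : GL D.Idx F | ∃ (r : ℕ) (t : F), IsFixRoot D T M' r ∧ g = xg hC r t} with hS
    have hAS : A ∈ S ∧ A ∈ Uge hC F (wL D L x₀ + 1) := by
      constructor
      · rw [hA]
        refine list_prod_mem fun y hy => ?_
        obtain ⟨r, hr, rfl⟩ := List.mem_map.1 hy
        exact Subgroup.subset_closure ⟨r, _, of_decide_eq_true (List.mem_filter.1 hr).2, rfl⟩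
      · rw [hA]
        refine prodX_mem hC fun r hr => ?_
        obtain ⟨hr', hq⟩ := List.mem_filter.1 hr
        obtain ⟨h3, h4, h5⟩ := (mem_posFrom hC).1 hr'
        refine ⟨h3, h4, Nat.lt_of_le_of_ne h5 ?_⟩
        rintro rfl
        exact hne (of_decide_eq_true hq).2.2
    obtain ⟨c₀, hc₀⟩ : ∃ n, n = nL hC F M' := ⟨_, rfl⟩
    have hSU : S ≤ (D.posUnipotent F).comap (MulAut.conj c₀).toMonoidHom := by
      rw [hS, Subgroup.closure_le]
      rintro _ ⟨r, t, hr, rfl⟩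
      obtain ⟨η', -, e'⟩ := nL_conj_x (F := F) hC hM' hr.1
      show c₀ * xg hC r t * c₀⁻¹ ∈ D.posUnipotent F
      rw [hc₀, e', hr.2.2]
      exact xg_mem_U hC hr.1 hr.2.1 _
    have hB1 : c₀ * B * c₀⁻¹ = 1 := by
      refine U_inf_V hC ?_ ?_
      · have e' : c₀ * B * c₀⁻¹ = (c₀ * A * c₀⁻¹)⁻¹ * (c₀ * w * c₀⁻¹) := by rw [hf]; group
        rw [e']
        exact mul_mem (inv_mem (hSU hAS.1)) (hSU hz)
      · have : B ∈ (D.negUnipotent F).comap (MulAut.conj c₀).toMonoidHom := by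
          rw [hB]
          refine list_prod_mem fun y hy => ?_
          obtain ⟨r, hr, rfl⟩ := List.mem_map.1 hy
          obtain ⟨hr', hq⟩ := List.mem_filter.1 (List.mem_reverse.1 hr)
          obtain ⟨h3, h4, -⟩ := (mem_posFrom hC).1 hr'
          obtain ⟨η', -, e'⟩ := nL_conj_x (F := F) hC hM' h3
          show c₀ * xg hC r (f r) * c₀⁻¹ ∈ D.negUnipotent F
          rw [hc₀, e']
          refine xg_mem_V hC (wL_lt hC hM' h3) ?_ _
          simp only [Bool.not_eq_true', decide_eq_false_iff_not] at hq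
          rcases lt_or_gt_of_ne (hC.phi_ne_zero (wL_lt hC hM' h3)) with hlt | hgt
          · exact hlt
          · exact absurd ⟨h3, h4, hfix' r h3 h4 hgt⟩ hq
        exact this
    rw [conj_eq_one_iff] at hB1
    rw [hf, hB1, mul_one] at h2
    exact h2 hAS.2
  have hall : ∀ i < D.rank, wL D M' (D.simple i) = D.simple i := fun i hi =>
    fix_simple_of_cor hC hM' hfix' htl htp htfix hi (cor_ne_zero_of_dominant hC hd htl htp hdom hi)
  have hfull : D.posUnipotent F ≤ E.map (MulAut.conj (nL hC F L * b⁻¹)).toMonoidHom := by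
    have key : D.posUnipotent F ≤
        ((E.map (MulAut.conj (nL hC F L * b⁻¹)).toMonoidHom).comap (MulAut.conj b').toMonoidHom) := by
      rw [← Uge_zero hC, Uge, Subgroup.closure_le]
      rintro _ ⟨r, t, hr, hp, -, rfl⟩
      refine hk' r ⟨hr, hp, hfix' r hr hp ?_⟩ t
      exact wL_pos hC hM' (fun i hi => by rw [hall i hi]; exact hC.phi_simple hi) hr hp
    intro z hz
    have := key (borel_conj_mem_U hC (inv_mem hb') hz)
    simpa [mul_assoc] using this
  have hcard : Nat.card E = Nat.card (D.posUnipotent F) := by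
    refine le_antisymm (Subgroup.card_le_of_le hEU) ?_
    calc Nat.card (D.posUnipotent F) ≤ Nat.card (E.map (MulAut.conj (nL hC F L * b⁻¹)).toMonoidHom) :=
          Subgroup.card_le_of_le hfull
      _ = Nat.card E := Subgroup.card_map_of_injective (MulAut.conj _).injective
  exact (Subgroup.eq_of_le_of_card_ge hEU hcard.ge).ge

/-- An element of the group centralising `U` lies in `U`. -/
theorem centralizer_U_le {g : GL D.Idx F} (hg : g ∈ D.group F)
    (hc : ∀ z ∈ D.posUnipotent F, g * z = z * g) : g ∈ D.posUnipotent F := by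
  obtain ⟨b, hb, n, hn, u, hu, rfl⟩ := exists_BUN hC hg
  obtain ⟨c, L, hL, rfl⟩ := (mem_N_iff hC).1 hn
  obtain ⟨n, hn'⟩ : ∃ n, n = tor D c * nL hC F L := ⟨_, rfl⟩
  rw [← hn'] at hc
  have hrev : ∀ i ∈ L.reverse, i < D.rank := fun i hi => hL i (List.mem_reverse.1 hi)
  have hpos : ∀ r < D.nroots, 0 < T.phi r → 0 < T.phi (wL D L.reverse r) := by
    intro r hr hp
    by_contra hneg
    have := hC.phi_ne_zero (wL_lt hC hrev hr)
    obtain ⟨η, hη, e⟩ := inv_conj_xg (F := F) hC hL c hr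
    have h1 : n⁻¹ * xg hC r 1 * n ∈ D.posUnipotent F := by
      have hb1 := borel_conj_mem_U hC hb (xg_mem_U hC hr hp (1 : F))
      have h2 := hc _ hb1
      have e2 : n⁻¹ * xg hC r 1 * n = u * (b * xg hC r 1 * b⁻¹) * u⁻¹ :=
        calc n⁻¹ * xg hC r 1 * n = n⁻¹ * b⁻¹ * (b * xg hC r 1 * b⁻¹ * (b * n * u)) * u⁻¹ := by group
          _ = n⁻¹ * b⁻¹ * (b * n * u * (b * xg hC r 1 * b⁻¹)) * u⁻¹ := by rw [h2]
          _ = _ := by group
      rw [e2]
      exact mul_mem (mul_mem hu hb1) (inv_mem hu)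
    rw [hn', e] at h1
    have h2 := U_inf_V hC h1 (xg_mem_V hC (wL_lt hC hrev hr) (by omega) _)
    rw [← xg_zero hC (wL D L.reverse r)] at h2
    exact mul_ne_zero hη one_ne_zero (xg_injective hC (wL_lt hC hrev hr) h2)
  have hposL : ∀ i < D.rank, 0 < T.phi (wL D L (D.simple i)) := by
    intro i hi
    by_contra hneg
    have hlt := wL_lt hC hL (hC.simple_lt hi)
    have := hC.phi_ne_zero hlt
    have h1 := hpos _ (hC.neg_lt hlt) (by rw [hC.phi_neg hlt]; omega)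
    rw [wL_neg hC hrev hlt, wL_reverse hC hL (hC.simple_lt hi), hC.phi_neg (hC.simple_lt hi)] at h1
    have := hC.phi_simple hi
    omega
  obtain ⟨c', hc'⟩ := exists_tor_of_pos (F := F) hC hL hposL
  have hB : b * n * u ∈ D.borelSubgroup F := by
    rw [hn', hc']
    exact mul_mem (mul_mem hb (mul_mem (Subgroup.mem_sup_right (tor_mem_H hC c))
      (Subgroup.mem_sup_right (tor_mem_H hC c')))) (Subgroup.mem_sup_left hu)
  obtain ⟨v, hv, h, hh, hgv⟩ := (mem_B_iff hC).1 hB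
  obtain ⟨d, rfl⟩ := (mem_H_iff hC).1 hh
  have hone : ∀ i < D.rank, torChar D d (D.simple i) = 1 := by
    intro i hi
    have hr := hC.simple_lt hi
    have hp := hC.phi_simple hi
    have e := tor_conj_x hC d (D.simple i) (1 : F) hr
    rw [mul_one] at e
    have hcx := hc _ (xg_mem_U hC hr hp (1 : F))
    have e1 : xg hC (D.simple i) (1 : F) =
        v * xg hC (D.simple i) ((torChar D d (D.simple i) : Fˣ) : F) * v⁻¹ := by
      rw [← e]
      calc xg hC (D.simple i) (1 : F) = (b * n * u) * xg hC (D.simple i) 1 * (b * n * u)⁻¹ := by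
            rw [hcx]; group
        _ = _ := by rw [hgv]; group
    have h1 := conj_xg_Uge hC hr hp hv ((torChar D d (D.simple i) : Fˣ) : F)
    rw [← e1, xg_inv hC, ← xg_add hC] at h1
    have h2 := not_mem_Uge hC hr hp h1
    rw [← sub_eq_add_neg, sub_eq_zero] at h2
    exact Units.ext h2.symm
  have hall : ∀ r < D.nroots, torChar D d r = 1 := by
    refine Cfsg.Agent.Chevalley.Root.simple_induction hC (P := fun r => torChar D d r = 1)
      (fun i hi => hone i hi) fun r hr i hi ih => ?_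
    have e : ∀ s, s < D.nroots → torChar D d (D.reflectRoot i s) =
        torChar D d s * torChar D d (D.simple i) ^ (-D.cartan i s) := by
      intro s hs
      simp only [torChar, ← Finset.prod_zpow, ← Finset.prod_mul_distrib, ← zpow_mul, ← zpow_add]
      refine Finset.prod_congr rfl fun k hk => ?_
      rw [hC.cartan_reflect hi (Finset.mem_range.1 hk) hs]
      congr 1; ring
    rw [e r hr, ih, hone i hi, one_zpow, mul_one]
  have hd1 : tor D d = 1 := by
    rw [tor, ← dg_one]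
    exact dg_congr fun s hs => hall s hs
  rw [← hn', hgv, hd1, mul_one]
  exact hv

end Cfsg.Agent.SimpleFacts.ChevalleyBlocks
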