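import Cfsg.Agent.Lib.Chevalley.Borel
import Cfsg.Agent.Lib.Chevalley.Weyl

/-!
Words of fundamental reflections fixing every positive root they keep positive.
-/

set_option autoImplicit false

namespace Cfsg.Agent.SimpleFacts.ChevalleyBlocks

open Cfsg.Lie Cfsg.Agent.Chevalley.Eval Cfsg.Agent.Chevalley.Table Cfsg.Agent.Chevalley.Check Cfsg.Agent.Chevalley.Cert
  Cfsg.Agent.Chevalley.Group Cfsg.Agent.Chevalley.Borel Cfsg.Agent.Chevalley.Weyl

variable {D : ChevalleyDatum} {T : Tab}

/-- Every positive root the word keeps positive is fixed by it. -/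
def IsFixWord (D : ChevalleyDatum) (T : Tab) (M : List ℕ) : Prop :=
  ∀ r, r < D.nroots → 0 < T.phi r → 0 < T.phi (wL D M r) → wL D M r = r

/-- The positive roots fixed by a word. -/
def IsFixRoot (D : ChevalleyDatum) (T : Tab) (M : List ℕ) (r : ℕ) : Prop :=
  r < D.nroots ∧ 0 < T.phi r ∧ wL D M r = r

/-- A dominant positive root involves every fundamental root. -/
noncomputable def domChk (T : Tab) : Bool :=
  allR T.n fun r => !iblt 0 (T.phi r) || (anyR T.l fun i => iblt (T.A i r) 0) ||
    allR T.l fun i => !isZ (T.C r i)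

variable (hC : Certified D T)
include hC

theorem cor_ne_zero_of_dominant (hd : domChk T = true) {r : ℕ} (hr : r < D.nroots) (hp : 0 < T.phi r)
    (hdom : ∀ i < D.rank, 0 ≤ D.cartan i r) {i : ℕ} (hi : i < D.rank) : cor D r i ≠ 0 := by
  have h := of_allR hd r (by rw [hC.n_eq]; exact hr)
  rw [(iblt_iff _ _).2 hp, Bool.not_true, Bool.false_or, Bool.or_eq_true] at h
  rcases h with h | h
  · obtain ⟨j, hj, h'⟩ := of_anyR h
    rw [hC.l_eq] at hj
    rw [iblt_iff, hC.linked.A_eq j hj r hr] at h'
    exact absurd (hdom j hj) (not_le.2 h')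
  · have h' := of_allR h i (by rw [hC.l_eq]; exact hi)
    rw [Bool.not_eq_true'] at h'
    intro h0
    rw [hC.linked.C_eq r hr i hi, (isZ_iff _).2 h0] at h'
    exact Bool.noConfusion h'

variable {M : List ℕ} (hM : ∀ i ∈ M, i < D.rank) (hfix : IsFixWord D T M)
include hM hfix

theorem phi_wL_le {r : ℕ} (hr : r < D.nroots) (hp : 0 < T.phi r) : T.phi (wL D M r) ≤ T.phi r := by
  rcases lt_or_gt_of_ne (hC.phi_ne_zero (wL_lt hC hM hr)) with h | h
  · omega
  · rw [hfix r hr hp h]

/-- A fixed root involves only fixed fundamental roots. -/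
theorem fix_simple_of_cor : ∀ {r : ℕ}, r < D.nroots → 0 < T.phi r → wL D M r = r →
    ∀ {j : ℕ}, j < D.rank → cor D r j ≠ 0 → wL D M (D.simple j) = D.simple j := by
  intro r
  induction r using Nat.strong_induction_on with
  | _ r ih =>
    intro hr hp hf j hj hc
    obtain ⟨i, hi, rfl | ⟨hk, -, hp', hlt⟩⟩ := descend hC hr hp
    · rw [hC.cor_simple hi hj] at hc
      obtain rfl : i = j := by
        by_contra hne
        exact hc (if_neg hne)
      exact hf
    · have hr' := hC.reflect_lt hi hr
      have h1 : T.phi (wL D M (D.reflectRoot i r)) =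
          T.phi (wL D M r) - D.cartan i r * T.phi (wL D M (D.simple i)) := phi_wL_additive hC hM i hi r hr
      have h2 := hC.phi_reflect hi hr
      have h3 := phi_wL_le hC hM hfix hr' hp'
      have h4 := phi_wL_le hC hM hfix (hC.simple_lt hi) (hC.phi_simple hi)
      rw [hf] at h1
      have h5 : D.cartan i r * T.phi (wL D M (D.simple i)) ≤ D.cartan i r * T.phi (D.simple i) :=
        mul_le_mul_of_nonneg_left h4 hk.le
      have hfr : wL D M (D.reflectRoot i r) = D.reflectRoot i r :=
        hC.phi_inj (wL_lt hC hM hr') hr' (by omega)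
      by_cases hji : j = i
      · subst hji
        refine hC.phi_inj (wL_lt hC hM (hC.simple_lt hj)) (hC.simple_lt hj) ?_
        have : D.cartan j r * T.phi (wL D M (D.simple j)) = D.cartan j r * T.phi (D.simple j) := by omega
        exact mul_left_cancel₀ hk.ne' this
      · refine ih _ hlt hr' hp' hfr hj ?_
        rwa [hC.cor_reflect hi hj hr, if_neg hji]

omit hfix in
/-- If some positive root becomes negative, so does a fundamental one. -/
theorem exists_simple_neg {r : ℕ} (hr : r < D.nroots) (hp : 0 < T.phi r) (hn : T.phi (wL D M r) < 0) :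
    ∃ i < D.rank, T.phi (wL D M (D.simple i)) < 0 := by
  by_contra h
  simp only [not_exists, not_and, not_lt] at h
  have := wL_pos hC hM (fun i hi => by
    have := h i hi
    have := hC.phi_ne_zero (wL_lt hC hM (hC.simple_lt hi))
    omega) hr hp
  omega

/-- The fixed roots can be moved inside the positive ones so that one of them becomes dominant. -/
theorem exists_dominant_image {s : ℕ} (hs : IsFixRoot D T M s) :
    ∃ (L : List ℕ) (x : ℕ), (∀ i ∈ L, i < D.rank) ∧ (∀ y, IsFixRoot D T M y → 0 < T.phi (wL D L y)) ∧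
      IsFixRoot D T M x ∧ ∀ b < D.rank, 0 ≤ D.cartan b (wL D L x) := by
  classical
  let P : ℕ → Prop := fun t => ∃ (L : List ℕ) (x : ℕ), (∀ i ∈ L, i < D.rank) ∧
    (∀ y, IsFixRoot D T M y → 0 < T.phi (wL D L y)) ∧ IsFixRoot D T M x ∧ wL D L x = t
  have hPs : P s := ⟨[], s, by simp, fun y hy => hy.2.1, hs, rfl⟩
  have hmax : P (Nat.findGreatest P D.nroots) := Nat.findGreatest_spec hs.1.le hPs
  obtain ⟨L, x, hL, hpos, hx, ht⟩ := hmax
  refine ⟨L, x, hL, hpos, hx, fun b hb => ?_⟩
  by_contra hneg
  rw [not_le] at hneg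
  have htl := wL_lt hC hL hx.1
  have htp := hpos x hx
  have hup : T.phi (wL D L x) < T.phi (D.reflectRoot b (wL D L x)) := by
    rw [hC.phi_reflect hb htl]
    have := mul_neg_of_neg_of_pos hneg (hC.phi_simple hb)
    omega
  have hbetter : P (D.reflectRoot b (wL D L x)) := by
    have hbL : ∀ i ∈ b :: L, i < D.rank := fun i hi => (List.mem_cons.1 hi).elim (fun e => e ▸ hb) (hL i)
    by_cases hex : ∃ x₀, IsFixRoot D T M x₀ ∧ wL D L x₀ = D.simple b
    · obtain ⟨x₀, hx₀, e₀⟩ := hex
      have hrev : ∀ i ∈ L.reverse, i < D.rank := fun i hi => hL i (List.mem_reverse.1 hi)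
      have hMr : ∀ i ∈ M ++ L.reverse, i < D.rank := fun i hi => (List.mem_append.1 hi).elim (hM i) (hrev i)
      have ht' := hC.reflect_lt hb htl
      have hy := wL_lt hC hrev ht'
      have hid : ∀ {u : ℕ}, u < D.nroots → wL D L.reverse (wL D L u) = u := fun hu => wL_reverse hC hL hu
      have hid2 : wL D L (wL D L.reverse (D.reflectRoot b (wL D L x))) = D.reflectRoot b (wL D L x) := by
        have := wL_reverse hC hrev ht'
        rwa [List.reverse_reverse] at this
      have a1 : T.phi (wL D L.reverse (D.reflectRoot b (wL D L x))) =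
          T.phi (wL D L.reverse (wL D L x)) -
            D.cartan b (wL D L x) * T.phi (wL D L.reverse (D.simple b)) :=
        phi_wL_additive hC hrev b hb _ htl
      have a2 : T.phi (wL D (M ++ L.reverse) (D.reflectRoot b (wL D L x))) =
          T.phi (wL D (M ++ L.reverse) (wL D L x)) -
            D.cartan b (wL D L x) * T.phi (wL D (M ++ L.reverse) (D.simple b)) :=
        phi_wL_additive hC hMr b hb _ htl
      simp only [wL_append, ← e₀, hid hx.1, hid hx₀.1, hx.2.2, hx₀.2.2] at a1 a2
      have hfy : wL D M (wL D L.reverse (D.reflectRoot b (wL D L x))) =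
          wL D L.reverse (D.reflectRoot b (wL D L x)) :=
        hC.phi_inj (wL_lt hC hM hy) hy (a2.trans a1.symm)
      refine ⟨L, _, hL, hpos, ⟨hy, ?_, hfy⟩, hid2⟩
      by_contra hnp
      have hne := hC.phi_ne_zero hy
      have hny : IsFixRoot D T M (D.neg (wL D L.reverse (D.reflectRoot b (wL D L x)))) :=
        ⟨hC.neg_lt hy, by rw [hC.phi_neg hy]; omega, by rw [wL_neg hC hM hy, hfy]⟩
      have := hpos _ hny
      rw [wL_neg hC hL hy, hid2, hC.phi_neg ht'] at this
      omega
    · refine ⟨b :: L, x, hbL, fun y hy => hC.reflect_pos hb (wL_lt hC hL hy.1) ?_ (hpos y hy), hx, rfl⟩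
      exact fun e => hex ⟨y, hy, e⟩
  have h1 : D.reflectRoot b (wL D L x) ≤ Nat.findGreatest P D.nroots :=
    Nat.le_findGreatest (hC.reflect_lt hb htl).le hbetter
  rw [← ht] at h1
  have h2 := (hC.phi_lt_iff htl (hC.reflect_lt hb htl)).1 hup
  omega

end Cfsg.Agent.SimpleFacts.ChevalleyBlocks
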